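import Mathlib
import Cfsg.Agent.Lib.Helper55.OOG.Defs
import Cfsg.Agent.Lib.Helper71.OOG.Alg

/-!
# OOG (S2413) packages [CONJ] and [COMR] (unconditional): conjugation of Siegel transformations
and the commutator formula `[ρ_{u,a}, ρ_{u',b}] = ρ_{u', -B(a,b) u}`.
-/

set_option autoImplicit false
open scoped Matrix

namespace Cfsg.Agent.Lib.Helper71.OOG

open Cfsg.Agent.Lib.Helper55.OOG

universe u

/-- [CONJ] `g ρ_{u,w} g⁻¹ = ρ_{gu,gw}`. -/
theorem isSieg_conj {m : ℕ} {F : Type u} [Field F] {u w : Vec m F} (g : ↥(Iso m F))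
    {σ : ↥(Iso m F)} (hσ : IsSieg u w σ) :
    IsSieg (mat g *ᵥ u) (mat g *ᵥ w) (g * σ * g⁻¹) := by
  intro v
  rw [mul_act, mul_act, hσ (mat g⁻¹ *ᵥ v), Matrix.mulVec_sub, Matrix.mulVec_add,
    Matrix.mulVec_smul, Matrix.mulVec_smul, act_inv, B_inv_act, B_inv_act, Q_act]

/-- Package [CONJ]. -/
theorem pkgConj : Cfsg.Agent.Lib.Helper55.OOG.PkgConj.{u} := by
  intro m F _ u w g σ hσ
  exact isSieg_conj g hσ

/-- [COMR] the commutator formula. -/
theorem isSieg_comr {m : ℕ} {F : Type u} [Field F] {u u' a b : Vec m F}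
    (_hu : QF m F u = 0) (hu' : QF m F u' = 0) (huu' : B u u' = 0) (_hua : B u a = 0)
    (hub : B u b = 0) (hu'a : B u' a = 0) (hu'b : B u' b = 0) {σ τ : ↥(Iso m F)}
    (hσ : IsSieg u a σ) (hτ : IsSieg u' b τ) :
    IsSieg u' ((-B a b) • u) (σ * τ * σ⁻¹ * τ⁻¹) := by
  have h1 : IsSieg (mat σ *ᵥ u') (mat σ *ᵥ b) (σ * τ * σ⁻¹) := isSieg_conj σ hτ
  have e1 : mat σ *ᵥ u' = u' := by
    rw [hσ u', B_comm u' u, huu', hu'a]
    module
  have e2 : mat σ *ᵥ b = b - B b a • u := by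
    rw [hσ b, B_comm b u, hub]
    module
  rw [e1, e2] at h1
  have h2 : IsSieg u' (-b) τ⁻¹ := isSieg_inv hu' hu'b hτ
  have hz1 : B u' (b - B b a • u) = 0 := by
    rw [B_sub_right, B_smul_right, hu'b, B_comm u' u, huu']
    ring
  have hz2 : B u' (-b) = 0 := by
    rw [B_neg_right, hu'b, neg_zero]
  have h3 := isSieg_mul hu' hz1 hz2 h1 h2
  have e3 : b - B b a • u + -b = (-B a b) • u := by
    rw [B_comm b a]
    module
  rw [e3] at h3
  exact h3

/-- Package [COMR] (unconditional). -/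
theorem pkgComr : Cfsg.Agent.Lib.Helper55.OOG.PkgComr.{u} := by
  intro m F _ u u' a b hu hu' huu' hua hub hu'a hu'b σ τ hσ hτ
  exact isSieg_comr hu hu' huu' hua hub hu'a hu'b hσ hτ

/-- Package [COMR] in the requested conditional shape. -/
theorem pkgComr_of (_hAlg : Cfsg.Agent.Lib.Helper55.OOG.PkgAlg.{u})
    (_hConj : Cfsg.Agent.Lib.Helper55.OOG.PkgConj.{u}) :
    Cfsg.Agent.Lib.Helper55.OOG.PkgComr.{u} := pkgComr

end Cfsg.Agent.Lib.Helper71.OOG
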